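import Groth.Agent.ResProp.EF.Grp
import Groth.Agent.ResProp.EF.K785.Nat

/-!
# The structure of admissible groups modulo `A^nat` (block G2b, 1.5 (a))

For `Adm H E ι` there is an algebra retraction `σ : O(E) → O(H)` of `ι`, and `O(E)^{⊗ j} = O(H)^{⊗ j} + nat` for
`j = 1, 2, 3`.  Only `OneStep.univ` is used.
-/

set_option autoImplicit false

universe u

open TensorProduct

noncomputable section

namespace Groth.Agent.ResProp.EF.K772

open Grp K785

/-- torsion-free in the form of `OneStep.univ` -/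
def TF (R : Type u) [CommRing R] : Prop := ∀ n : ℕ, n ≠ 0 → IsSMulRegular R (n : ℕ)

theorem isNat_iff {A : Type u} [CommRing A] {a : A} : IsNat a ↔ a ∈ natI A := Iff.rfl

theorem TF.mul {R : Type u} [CommRing R] (h : TF R) {n : ℕ} (hn : n ≠ 0) {x : R} (hx : (n : R) * x = 0) : x = 0 := by
  apply h n hn
  change n • x = n • 0
  rw [nsmul_eq_mul, hx, smul_zero]

/-- free modules over a domain of characteristic zero are torsion-free -/
theorem TF.of_free (k : Type u) [CommRing k] [IsDomain k] [CharZero k] (R : Type u) [CommRing R] [Algebra k R]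
    [Module.Free k R] : TF R := by
  intro n hn x y hxy
  change n • x = n • y at hxy
  have h : (n : k) • (x - y) = 0 := by
    rw [smul_sub, Nat.cast_smul_eq_nsmul, Nat.cast_smul_eq_nsmul, hxy, sub_self]
  rcases smul_eq_zero.1 h with h | h
  · exact absurd h (Nat.cast_ne_zero.2 hn)
  · exact sub_eq_zero.1 h

theorem TF.sub {k : Type u} [CommRing k] {A : Type u} [CommRing A] [Algebra k A] (h : TF A) (S : Subalgebra k A) : TF S := by
  intro n hn x y hxy
  apply Subtype.ext
  apply h n hn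
  exact congrArg Subtype.val hxy

section Ret

variable {k : Type u} [CommRing k] {A B : Type u} [CommRing A] [Algebra k A] [CommRing B] [Algebra k B]

/-- `σ` is a retraction of `ι` modulo `nat` -/
structure Ret (ι : B →ₐ[k] A) (σ : A →ₐ[k] B) : Prop where
  ret : ∀ b, σ (ι b) = b
  nat : ∀ a, a - ι (σ a) ∈ natI A

theorem Ret.id : Ret (AlgHom.id k A) (AlgHom.id k A) where
  ret _ := rfl
  nat a := by
    rw [AlgHom.id_apply, AlgHom.id_apply, sub_self]
    exact zero_mem _

theorem Ret.comp {C : Type u} [CommRing C] [Algebra k C] {ι : B →ₐ[k] A} {σ : A →ₐ[k] B} (h : Ret ι σ)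
    {ι' : A →ₐ[k] C} {σ' : C →ₐ[k] A} (h' : Ret ι' σ') : Ret (ι'.comp ι) (σ.comp σ') where
  ret b := by
    rw [AlgHom.comp_apply, AlgHom.comp_apply, h'.ret, h.ret]
  nat c := by
    have e : c - (ι'.comp ι) ((σ.comp σ') c) = (c - ι' (σ' c)) + ι' (σ' c - ι (σ (σ' c))) := by
      rw [map_sub]
      change c - ι' (ι (σ (σ' c))) = _
      abel
    rw [e]
    exact add_mem (h'.nat c) (map_mem_natI (ι' : A →+* C) (h.nat _))

theorem Ret.tmap {A' B' : Type u} [CommRing A'] [Algebra k A'] [CommRing B'] [Algebra k B'] {ι : B →ₐ[k] A}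
    {σ : A →ₐ[k] B} (h : Ret ι σ) {ι' : B' →ₐ[k] A'} {σ' : A' →ₐ[k] B'} (h' : Ret ι' σ') :
    Ret (Algebra.TensorProduct.map ι ι') (Algebra.TensorProduct.map σ σ') where
  ret b := by
    induction b with
    | zero => rw [map_zero, map_zero]
    | add x y hx hy => rw [map_add, map_add, hx, hy]
    | tmul x y => rw [Algebra.TensorProduct.map_tmul, Algebra.TensorProduct.map_tmul, h.ret, h'.ret]
  nat a := by
    induction a with
    | zero => rw [map_zero, map_zero, sub_zero]; exact zero_mem _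
    | add x y hx hy =>
      rw [map_add, map_add, add_sub_add_comm]
      exact add_mem hx hy
    | tmul x y =>
      rw [Algebra.TensorProduct.map_tmul, Algebra.TensorProduct.map_tmul]
      have e : x ⊗ₜ[k] y - ι (σ x) ⊗ₜ[k] ι' (σ' y) =
          (Algebra.TensorProduct.includeLeft : A →ₐ[k] A ⊗[k] A') (x - ι (σ x)) * (1 ⊗ₜ[k] y) +
          (ι (σ x) ⊗ₜ[k] 1) * (Algebra.TensorProduct.includeRight : A' →ₐ[k] A ⊗[k] A') (y - ι' (σ' y)) := by
        rw [Algebra.TensorProduct.includeLeft_apply, Algebra.TensorProduct.includeRight_apply,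
          Algebra.TensorProduct.tmul_mul_tmul, Algebra.TensorProduct.tmul_mul_tmul, mul_one, one_mul, mul_one, one_mul,
          TensorProduct.sub_tmul, TensorProduct.tmul_sub]
        abel
      rw [e]
      exact add_mem (Ideal.mul_mem_right _ _ (map_mem_natI
        (Algebra.TensorProduct.includeLeft : A →ₐ[k] A ⊗[k] A').toRingHom (h.nat x)))
        (Ideal.mul_mem_left _ _ (map_mem_natI
        (Algebra.TensorProduct.includeRight : A' →ₐ[k] A ⊗[k] A').toRingHom (h'.nat y)))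

/-- membership in `nat` is divisibility by `p` after `σ` -/
theorem Ret.nat_iff {ι : B →ₐ[k] A} {σ : A →ₐ[k] B} (h : Ret ι σ) {p : ℕ} [hp : Fact p.Prime]
    (hu : ∀ n : ℕ, ¬ p ∣ n → IsUnit (n : A)) (hB : ∀ b : B, (p : B) ∣ b ^ p → (p : B) ∣ b) (a : A) :
    a ∈ natI A ↔ (p : B) ∣ σ a := by
  constructor
  · intro ha
    exact hB _ (dvd_pow_of_mem p (map_mem_natI (σ : A →+* B) ha))
  · rintro ⟨b, hb⟩
    have e : a = (a - ι (σ a)) + ι (σ a) := by abel
    rw [e]
    refine add_mem (h.nat a) ?_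
    rw [hb, map_mul, map_natCast]
    exact Ideal.mul_mem_right _ _ (prime_mem_natI p hu)

end Ret

section Step

variable {k : Type u} [CommRing k]

/-- the retraction for a one step extension -/
theorem OneStep.exists_ret [IsDomain k] [CharZero k] {E : Gp k} (S : OneStep E) :
    ∃ σ : S.E'.O →ₐ[k] E.O, Ret (S.ι : E.O →ₐ[k] S.E'.O) σ := by
  have tE : TF E.O := TF.of_free k _
  have tA : TF S.E'.O := TF.of_free k _
  -- the subalgebra
  let ι : E.O →ₐ[k] S.E'.O := (S.ι : E.O →ₐ[k] S.E'.O)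
  let N : Ideal S.E'.O := natI S.E'.O
  let A1 : Subalgebra k S.E'.O :=
    { carrier := {a | ∃ b, a - ι b ∈ N}
      mul_mem' := by
        rintro a b ⟨c, hc⟩ ⟨d, hd⟩
        refine ⟨c * d, ?_⟩
        have e : a * b - ι (c * d) = (a - ι c) * b + ι c * (b - ι d) := by rw [map_mul]; ring
        rw [e]
        exact add_mem (Ideal.mul_mem_right _ _ hc) (Ideal.mul_mem_left _ _ hd)
      add_mem' := by
        rintro a b ⟨c, hc⟩ ⟨d, hd⟩
        refine ⟨c + d, ?_⟩
        have e : a + b - ι (c + d) = (a - ι c) + (b - ι d) := by rw [map_add]; ring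
        rw [e]
        exact add_mem hc hd
      algebraMap_mem' := fun r => ⟨algebraMap k _ r, by
        rw [ι.commutes, sub_self]; exact zero_mem _⟩ }
  have hN : ∀ a ∈ N, a ∈ A1 := fun a ha => ⟨0, by rw [map_zero, sub_zero]; exact ha⟩
  have hι : ∀ b, ι b ∈ A1 := fun b => ⟨b, by rw [sub_self]; exact zero_mem _⟩
  -- nat elements of the big ring are nat in the small one
  have hnat : ∀ (a : A1), (a : S.E'.O) ∈ N → IsNat a := by
    intro a ha n
    rcases Nat.eq_zero_or_pos n with rfl | hn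
    · rw [pow_zero, Nat.factorial_zero, Nat.cast_one]
    · obtain ⟨c, hc⟩ := ha n
      have hcN : c ∈ N := mem_natI_of_factorial_mul (fun n hn x hx => tA.mul hn hx) ha hn.ne' hc.symm
      refine ⟨⟨c, hN c hcN⟩, ?_⟩
      apply Subtype.ext
      push_cast
      exact hc
  -- lift of the tautological cochain to `A1`
  let _ := S.free
  let _ := S.fin
  let bs := Module.Free.chooseBasis k S.V.V
  have hx : ∀ i, coef1 (k := k) (A := S.E'.O) (bs.coord i) S.x ∈ N := fun i => S.nx _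
  let y : S.V.V ⊗[k] A1 := ∑ i, bs i ⊗ₜ ⟨coef1 (k := k) (A := S.E'.O) (bs.coord i) S.x, hN _ (hx i)⟩
  have hsum : ∀ (A : Type u) [CommRing A] [Algebra k A] (t : S.V.V ⊗[k] A),
      t = ∑ i, bs i ⊗ₜ coef1 (k := k) (A := A) (bs.coord i) t := by
    intro A _ _ t
    induction t with
    | zero => simp
    | add x y hx hy =>
      conv_lhs => rw [hx, hy]
      rw [← Finset.sum_add_distrib]
      refine Finset.sum_congr rfl fun i _ => ?_
      rw [← TensorProduct.tmul_add, map_add]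
    | tmul v a =>
      have h : ∀ i, coef1 (k := k) (A := A) (bs.coord i) (v ⊗ₜ a) = bs.coord i v • a := fun i => by
        simp [coef1]
      simp_rw [h]
      simp_rw [← TensorProduct.smul_tmul]
      rw [← TensorProduct.sum_tmul]
      congr 1
      exact (bs.sum_repr v).symm
  have hycoef : ∀ f : S.V.V →ₗ[k] k, IsNat (coef1 (k := k) f y) := by
    intro f
    rw [isNat_iff, map_sum]
    refine Ideal.sum_mem _ fun i _ => ?_
    have h : coef1 (k := k) f (bs i ⊗ₜ[k] (⟨coef1 (k := k) (A := S.E'.O) (bs.coord i) S.x, hN _ (hx i)⟩ : A1)) =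
        f (bs i) • (⟨coef1 (k := k) (A := S.E'.O) (bs.coord i) S.x, hN _ (hx i)⟩ : A1) := by
      simp [coef1]
    rw [h]
    exact Submodule.smul_of_tower_mem _ _ (hnat _ (hx i))
  -- the map to `A1`
  obtain ⟨h, ⟨h1, h2⟩, -⟩ := S.univ A1 (tA.sub A1) (ι.codRestrict A1 hι) y hycoef
  -- uniqueness
  have huniq : A1.val.comp h = AlgHom.id k S.E'.O := by
    obtain ⟨h', -, hh'⟩ := S.univ S.E'.O tA ι S.x S.nx
    refine (hh' (A1.val.comp h) ⟨?_, ?_⟩).trans (hh' (AlgHom.id k S.E'.O) ⟨?_, ?_⟩).symm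
    · rw [AlgHom.comp_assoc, h1]
      exact AlgHom.val_comp_codRestrict _ _ _
    · have e : (A1.val.comp h).toLinearMap = A1.val.toLinearMap ∘ₗ h.toLinearMap := rfl
      rw [e, LinearMap.lTensor_comp, LinearMap.comp_apply, h2, map_sum]
      conv_rhs => rw [hsum _ S.x]
      rfl
    · rfl
    · have e : (AlgHom.id k S.E'.O).toLinearMap = LinearMap.id := rfl
      rw [e, LinearMap.lTensor_id]
      rfl
  -- the retraction
  obtain ⟨σ, ⟨s1, -⟩, -⟩ := S.univ E.O tE (AlgHom.id k E.O) 0 (fun f => by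
    rw [isNat_iff, map_zero]; exact zero_mem _)
  refine ⟨σ, ⟨fun b => DFunLike.congr_fun s1 b, fun a => ?_⟩⟩
  have ha : a ∈ A1 := by
    have := DFunLike.congr_fun huniq a
    rw [AlgHom.comp_apply, AlgHom.id_apply] at this
    rw [← this]
    exact (h a).2
  obtain ⟨b, hb⟩ := ha
  have e : a - ι (σ a) = (a - ι b) - ι (σ (a - ι b)) := by
    have : σ (ι b) = b := DFunLike.congr_fun s1 b
    rw [map_sub, this, map_sub]
    abel
  change a - ι (σ a) ∈ N
  rw [e]
  exact sub_mem hb (map_mem_natI (ι : E.O →+* S.E'.O) (map_mem_natI (σ : S.E'.O →+* E.O) hb))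

/-- **the retraction for an admissible group** -/
theorem exists_ret [IsDomain k] [CharZero k] {H E : Gp k} {ι : H.O →ₐc[k] E.O} (h : Adm H E ι) :
    ∃ σ : E.O →ₐ[k] H.O, Ret (ι : H.O →ₐ[k] E.O) σ := by
  induction h with
  | base => exact ⟨AlgHom.id k _, Ret.id⟩
  | step E ι h S ih =>
    obtain ⟨σ, hσ⟩ := ih
    obtain ⟨σ', hσ'⟩ := OneStep.exists_ret S
    exact ⟨σ.comp σ', hσ.comp hσ'⟩

end Step

section Lb

variable {k : Type u} [CommRing k] {p : ℕ}

theorem isUnit_natCast (h : IsLb p k) {n : ℕ} (hn : ¬ p ∣ n) : IsUnit (n : k) := by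
  have := h.dom
  apply h.unit_of
  intro hd
  have hc : Nat.Coprime p n := (Nat.Prime.coprime_iff_not_dvd h.prime).2 hn
  apply h.not_unit
  have h1 : IsCoprime (p : k) (n : k) := by
    have := (Nat.isCoprime_iff_coprime.2 hc).map (Int.castRingHom k)
    simpa using this
  exact (h1.isUnit_of_dvd' dvd_rfl hd)

theorem isUnit_natCast_alg (h : IsLb p k) (A : Type u) [CommRing A] [Algebra k A] {n : ℕ} (hn : ¬ p ∣ n) :
    IsUnit (n : A) := by
  have := (isUnit_natCast h hn).map (algebraMap k A)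
  rwa [map_natCast] at this

/-- the statement used in 1.5: `σ` is a retraction modulo nat, and nat = divisible by `p` after `σ`, for `A`, `A ⊗ A`
and `(A ⊗ A) ⊗ A` -/
theorem adm_main (hL : IsLb p k) {H E : Gp k} {ι : H.O →ₐc[k] E.O} (h : Adm H E ι) (hr : RedModP p H) :
    ∃ σ : E.O →ₐ[k] H.O, (∀ b, σ (ι b) = b) ∧ (∀ a, IsNat (a - ι (σ a))) ∧
      (∀ a, IsNat a ↔ (p : H.O) ∣ σ a) ∧
      (∀ t : E.O ⊗[k] E.O, IsNat (t - Algebra.TensorProduct.map (ι : H.O →ₐ[k] E.O) (ι : H.O →ₐ[k] E.O)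
        (Algebra.TensorProduct.map σ σ t))) ∧
      (∀ t : E.O ⊗[k] E.O, IsNat t ↔ (p : H.O ⊗[k] H.O) ∣ Algebra.TensorProduct.map σ σ t) ∧
      (∀ t : E.O ⊗[k] E.O ⊗[k] E.O, IsNat t ↔ (p : H.O ⊗[k] H.O ⊗[k] H.O) ∣
        Algebra.TensorProduct.map (Algebra.TensorProduct.map σ σ) σ t) := by
  have := hL.dom
  have := hL.char0
  have : Fact p.Prime := ⟨hL.prime⟩
  obtain ⟨σ, hσ⟩ := exists_ret h
  obtain ⟨r1, r2, r3⟩ := hr
  exact ⟨σ, hσ.ret, hσ.nat, hσ.nat_iff (fun n hn => isUnit_natCast_alg hL _ hn) r1,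
    (hσ.tmap hσ).nat, (hσ.tmap hσ).nat_iff (fun n hn => isUnit_natCast_alg hL _ hn) r2,
    ((hσ.tmap hσ).tmap hσ).nat_iff (fun n hn => isUnit_natCast_alg hL _ hn) r3⟩

end Lb

end Groth.Agent.ResProp.EF.K772
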