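import Groth.Agent.ResProp.EF.K772.AdmInv
import Groth.Agent.ResProp.EF.K624.Nodes

/-!
# J10a: `KillLat H` from `KillModP p H` and `RedModP p H`
-/

set_option autoImplicit false

universe u

open TensorProduct

noncomputable section

namespace Groth.Agent.ResProp.EF.K772

open Grp K785 K624

section PP

variable {k : Type u} [CommRing k] (p : ℕ)

variable (k) in
/-- `p M` -/
def PP (M : Type u) [AddCommGroup M] [Module k M] : Submodule k M := LinearMap.range (LinearMap.lsmul k M (p : k))

variable {p}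
variable {M N : Type u} [AddCommGroup M] [Module k M] [AddCommGroup N] [Module k N]

theorem mem_PP {x : M} : x ∈ PP k p M ↔ ∃ z : M, (p : k) • z = x := Iff.rfl

theorem map_mem_PP (f : M →ₗ[k] N) {x : M} (h : x ∈ PP k p M) : f x ∈ PP k p N := by
  obtain ⟨z, rfl⟩ := h
  exact ⟨f z, (f.map_smul _ _).symm⟩

theorem smul_mem_PP (z : M) : (p : k) • z ∈ PP k p M := ⟨z, rfl⟩

theorem mem_PP_alg {A : Type u} [CommRing A] [Algebra k A] {x : A} : x ∈ PP k p A ↔ (p : A) ∣ x := by
  constructor
  · rintro ⟨z, rfl⟩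
    refine ⟨z, ?_⟩
    rw [LinearMap.lsmul_apply, Algebra.smul_def, map_natCast]
  · rintro ⟨z, rfl⟩
    refine ⟨z, ?_⟩
    rw [LinearMap.lsmul_apply, Algebra.smul_def, map_natCast]

theorem mul_mem_PP {A : Type u} [CommRing A] [Algebra k A] {x : A} (y : A) (h : x ∈ PP k p A) : y * x ∈ PP k p A := by
  rw [mem_PP_alg] at h ⊢
  exact h.mul_left y

theorem mul_mem_PP' {A : Type u} [CommRing A] [Algebra k A] {x : A} (y : A) (h : x ∈ PP k p A) : x * y ∈ PP k p A := by
  rw [mul_comm]
  exact mul_mem_PP y h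

theorem tmul_eq_zero {m : M} (hm : (p : k) • m = 0) {x : N} (h : x ∈ PP k p N) : m ⊗ₜ[k] x = 0 := by
  obtain ⟨z, rfl⟩ := h
  rw [LinearMap.lsmul_apply, TensorProduct.tmul_smul, TensorProduct.smul_tmul', hm, TensorProduct.zero_tmul]

theorem kill_tensor (hm : ∀ m : M, (p : k) • m = 0) (t : M ⊗[k] N) : (p : k) • t = 0 := by
  induction t with
  | zero => rw [smul_zero]
  | add x y hx hy => rw [smul_add, hx, hy, add_zero]
  | tmul x y => rw [TensorProduct.smul_tmul', hm, TensorProduct.zero_tmul]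

/-- `g : P → P/pP` -/
structure Red (p : ℕ) (g : M →ₗ[k] N) : Prop where
  surj : Function.Surjective g
  ker : ∀ x, g x = 0 → x ∈ PP k p M
  kill : ∀ y : N, (p : k) • y = 0

theorem Red.rTensor {g : M →ₗ[k] N} (h : Red p g) (X : Type u) [AddCommGroup X] [Module k X] :
    Red p (g.rTensor X) where
  surj := LinearMap.rTensor_surjective X h.surj
  ker x hx := by
    have hex : Function.Exact (LinearMap.lsmul k M (p : k)) g := by
      intro y
      constructor
      · exact h.ker y
      · rintro ⟨z, rfl⟩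
        rw [LinearMap.lsmul_apply, map_smul, h.kill]
    obtain ⟨y, hy⟩ := (rTensor_exact X hex h.surj x).1 hx
    refine ⟨y, ?_⟩
    rw [← hy]
    have : (LinearMap.lsmul k M (p : k)) = (p : k) • LinearMap.id := by ext; rfl
    rw [this, LinearMap.rTensor_smul, LinearMap.rTensor_id]
    rfl
  kill := kill_tensor h.kill

variable (k p M) in
/-- `M → M/pM` -/
theorem red_mkQ : Red p (PP k p M).mkQ where
  surj := Submodule.mkQ_surjective _
  ker x hx := (Submodule.Quotient.mk_eq_zero _).1 hx
  kill y := by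
    obtain ⟨x, rfl⟩ := Submodule.mkQ_surjective _ y
    rw [← map_smul]
    exact (Submodule.Quotient.mk_eq_zero _).2 (smul_mem_PP x)

end PP

section SD

variable {k : Type u} [CommRing k]

/-- a linear map `σ : O(E) → O(H)` which is a Hopf algebra retraction modulo `p` -/
structure SD (p : ℕ) {H E : Gp k} (ι : H.O →ₐc[k] E.O) (σ : E.O →ₗ[k] H.O) : Prop where
  one : σ 1 - 1 ∈ PP k p H.O
  mul : ∀ a a', σ (a * a') - σ a * σ a' ∈ PP k p H.O
  ret : ∀ b, σ (ι b) - b ∈ PP k p H.O
  comul : ∀ a, Coalgebra.comul (R := k) (σ a) - TensorProduct.map σ σ (Coalgebra.comul (R := k) a) ∈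
    PP k p (H.O ⊗[k] H.O)
  counit : ∀ a, Coalgebra.counit (R := k) (σ a) - Coalgebra.counit (R := k) a ∈ PP k p k
  nat : ∀ t : E.O ⊗[k] E.O, TensorProduct.map σ σ t ∈ PP k p (H.O ⊗[k] H.O) → IsNat t

theorem dvd_of_nat {p : ℕ} [Fact p.Prime] {A B : Type u} [CommRing A] [Algebra k A] [CommRing B] [Algebra k B]
    (ι : B →ₐ[k] A) (r : A →ₗ[k] B) (hr : ∀ b, r (ι b) = b) (hred : ∀ b : B, (p : B) ∣ b ^ p → (p : B) ∣ b)
    {b : B} (h : ι b ∈ natI A) : b ∈ PP k p B := by
  rw [mem_PP_alg]
  apply hred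
  obtain ⟨a, ha⟩ := dvd_pow_of_mem p h
  rw [← map_pow] at ha
  refine ⟨r a, ?_⟩
  rw [← hr (b ^ p), ha, ← nsmul_eq_mul, map_nsmul, nsmul_eq_mul]

theorem exists_sd {p : ℕ} (hL : IsLb p k) {H E : Gp k} (hr : RedModP p H) {ι : H.O →ₐc[k] E.O} (hι : K624.Inv ι) :
    ∃ σ : E.O →ₗ[k] H.O, SD p ι σ := by
  have := hL.dom
  have := hL.char0
  have hp : Fact p.Prime := ⟨hL.prime⟩
  obtain ⟨h1, r, hret⟩ := hι
  obtain ⟨r1, r2, r3⟩ := hr
  let i : H.O →ₐ[k] E.O := (ι : H.O →ₐ[k] E.O)
  -- the lift
  let N : Submodule k E.O := (natI E.O).restrictScalars k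
  let q : E.O →ₗ[k] E.O ⧸ N := N.mkQ
  have hs : Function.Surjective (q ∘ₗ i.toLinearMap) := by
    intro y
    obtain ⟨a, rfl⟩ := Submodule.mkQ_surjective _ y
    obtain ⟨b, hb⟩ := h1 a
    refine ⟨b, ?_⟩
    rw [LinearMap.comp_apply]
    refine ((Submodule.Quotient.eq N).2 ?_).symm
    exact hb
  obtain ⟨σ, hσ⟩ := Module.projective_lifting_property (q ∘ₗ i.toLinearMap) q hs
  have hn : ∀ a, a - i (σ a) ∈ natI E.O := by
    intro a
    have h := LinearMap.congr_fun hσ a
    rw [LinearMap.comp_apply, LinearMap.comp_apply] at h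
    exact (Submodule.Quotient.eq N).1 h.symm
  have inj1 : ∀ b : H.O, i b ∈ natI E.O → b ∈ PP k p H.O := fun b hb => dvd_of_nat i r hret r1 hb
  let ii : H.O ⊗[k] H.O →ₐ[k] E.O ⊗[k] E.O := Algebra.TensorProduct.map i i
  have inj2 : ∀ t : H.O ⊗[k] H.O, ii t ∈ natI (E.O ⊗[k] E.O) → t ∈ PP k p (H.O ⊗[k] H.O) := by
    intro t ht
    refine dvd_of_nat ii (TensorProduct.map r r) (fun b => ?_) r2 ht
    induction b with
    | zero => rw [map_zero, map_zero]
    | add x y hx hy => rw [map_add, map_add, hx, hy]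
    | tmul x y =>
      rw [Algebra.TensorProduct.map_tmul, TensorProduct.map_tmul]
      exact congrArg₂ _ (hret x) (hret y)
  have hu : ∀ n : ℕ, ¬ p ∣ n → IsUnit (n : E.O) := fun n hn => isUnit_natCast_alg hL _ hn
  have hu2 : ∀ n : ℕ, ¬ p ∣ n → IsUnit (n : E.O ⊗[k] E.O) := fun n hn => isUnit_natCast_alg hL _ hn
  have hn2 : ∀ t : E.O ⊗[k] E.O, t - ii (TensorProduct.map σ σ t) ∈ natI (E.O ⊗[k] E.O) := by
    intro t
    induction t with
    | zero => rw [map_zero, map_zero, sub_zero]; exact zero_mem _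
    | add x y hx hy =>
      rw [map_add, map_add, add_sub_add_comm]
      exact add_mem hx hy
    | tmul x y =>
      rw [TensorProduct.map_tmul, Algebra.TensorProduct.map_tmul]
      have e : x ⊗ₜ[k] y - i (σ x) ⊗ₜ[k] i (σ y) =
          (Algebra.TensorProduct.includeLeft : E.O →ₐ[k] E.O ⊗[k] E.O) (x - i (σ x)) * (1 ⊗ₜ[k] y) +
          (i (σ x) ⊗ₜ[k] 1) * (Algebra.TensorProduct.includeRight : E.O →ₐ[k] E.O ⊗[k] E.O) (y - i (σ y)) := by
        rw [Algebra.TensorProduct.includeLeft_apply, Algebra.TensorProduct.includeRight_apply,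
          Algebra.TensorProduct.tmul_mul_tmul, Algebra.TensorProduct.tmul_mul_tmul, mul_one, one_mul, mul_one, one_mul,
          TensorProduct.sub_tmul, TensorProduct.tmul_sub]
        abel
      rw [e]
      exact add_mem (Ideal.mul_mem_right _ _ (map_mem_natI
        (Algebra.TensorProduct.includeLeft : E.O →ₐ[k] E.O ⊗[k] E.O).toRingHom (hn x)))
        (Ideal.mul_mem_left _ _ (map_mem_natI
        (Algebra.TensorProduct.includeRight : E.O →ₐ[k] E.O ⊗[k] E.O).toRingHom (hn y)))
  refine ⟨σ, ⟨?_, ?_, ?_, ?_, ?_, ?_⟩⟩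
  · apply inj1
    rw [map_sub, map_one i, ← neg_mem_iff, neg_sub]
    exact hn 1
  · intro a a'
    apply inj1
    have e : i (σ (a * a') - σ a * σ a') =
        -(a * a' - i (σ (a * a'))) + ((a - i (σ a)) * a' + i (σ a) * (a' - i (σ a'))) := by
      rw [map_sub, map_mul i]; ring
    rw [e]
    exact add_mem (neg_mem (hn _)) (add_mem (Ideal.mul_mem_right _ _ (hn _)) (Ideal.mul_mem_left _ _ (hn _)))
  · intro b
    apply inj1
    rw [map_sub, ← neg_mem_iff, neg_sub]
    exact hn _
  · intro a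
    apply inj2
    have hc : ∀ b : H.O, ii (Coalgebra.comul (R := k) b) = Coalgebra.comul (R := k) (i b) := fun b =>
      CoalgHomClass.map_comp_comul_apply ι b
    rw [map_sub, hc]
    have hcc : Coalgebra.comul (R := k) (a - i (σ a)) ∈ natI (E.O ⊗[k] E.O) :=
      map_mem_natI (Bialgebra.comulAlgHom k E.O : E.O →+* E.O ⊗[k] E.O) (hn a)
    have e : Coalgebra.comul (R := k) (i (σ a)) - ii (TensorProduct.map σ σ (Coalgebra.comul (R := k) a)) =
        (Coalgebra.comul (R := k) a - ii (TensorProduct.map σ σ (Coalgebra.comul (R := k) a))) -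
          Coalgebra.comul (R := k) (a - i (σ a)) := by
      rw [map_sub]; abel
    rw [e]
    exact sub_mem (hn2 _) hcc
  · intro a
    have hc : ∀ b : H.O, Coalgebra.counit (R := k) (i b) = Coalgebra.counit (R := k) b := fun b =>
      CoalgHomClass.counit_comp_apply ι b
    have h : Coalgebra.counit (R := k) (a - i (σ a)) ∈ natI k :=
      map_mem_natI (Bialgebra.counitAlgHom k E.O : E.O →+* k) (hn a)
    rw [map_sub, hc] at h
    rw [mem_PP_alg]
    have h2 := dvd_pow_of_mem p h
    by_contra hcon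
    apply hL.not_unit
    have h3 : IsUnit (Coalgebra.counit (R := k) a - Coalgebra.counit (R := k) (σ a)) := by
      apply hL.unit_of
      intro h4
      apply hcon
      rwa [← dvd_neg, neg_sub] at h4
    exact isUnit_of_dvd_unit h2 (h3.pow p)
  · intro t ht
    have e : t = (t - ii (TensorProduct.map σ σ t)) + ii (TensorProduct.map σ σ t) := by abel
    rw [isNat_iff, e]
    refine add_mem (hn2 t) ?_
    obtain ⟨s, hs⟩ := mem_PP_alg.1 ht
    rw [hs, map_mul, map_natCast]
    exact Ideal.mul_mem_right _ _ (prime_mem_natI p hu2)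

end SD

section Chain

variable {k : Type u} [CommRing k] {p : ℕ} {H E : Gp k} {ι : H.O →ₐc[k] E.O} {σ : E.O →ₗ[k] H.O}

/-- the comparison of cochains -/
def cq (σ : E.O →ₗ[k] H.O) (M : GMod E) (M' : GMod H) (f : M.V →ₗ[k] M'.V) : (n : ℕ) → (M.C n →ₗ[k] M'.C n)
  | 0 => f
  | n + 1 => TensorProduct.map (cq σ M M' f n) σ

/-- `f` is compatible with the coactions -/
def Compat (σ : E.O →ₗ[k] H.O) (M : GMod E) (M' : GMod H) (f : M.V →ₗ[k] M'.V) : Prop :=
  ∀ v : M.V, TensorProduct.map f σ (HopfRep.Comod.coact (k := k) (A := E.O) v) =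
    HopfRep.Comod.coact (k := k) (A := H.O) (f v)

theorem tail_cq (h : SD p ι σ) {P P' : Type u} [AddCommGroup P] [Module k P] [AddCommGroup P'] [Module k P']
    (g : P →ₗ[k] P') (hk : ∀ y : P', (p : k) • y = 0) (x : P ⊗[k] E.O) :
    TensorProduct.map (TensorProduct.map g σ) σ (Hoch.tail k E.O P x) =
      Hoch.tail k H.O P' (TensorProduct.map g σ x) := by
  induction x with
  | zero => simp only [map_zero]
  | add x y hx hy => simp only [map_add, hx, hy]
  | tmul m a =>
    rw [TensorProduct.map_tmul, Hoch.tail_tmul, Hoch.tail_tmul]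
    have hassoc : ∀ t : E.O ⊗[k] E.O, TensorProduct.map (TensorProduct.map g σ) σ
        ((TensorProduct.assoc k P E.O E.O).symm (m ⊗ₜ[k] t)) =
        (TensorProduct.assoc k P' H.O H.O).symm (g m ⊗ₜ[k] TensorProduct.map σ σ t) := by
      intro t
      induction t with
      | zero => simp only [map_zero, TensorProduct.tmul_zero]
      | add x y hx hy => simp only [map_add, TensorProduct.tmul_add, hx, hy]
      | tmul x y => rfl
    rw [hassoc]
    congr 1
    rw [← sub_eq_zero, ← TensorProduct.tmul_sub]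
    apply tmul_eq_zero (p := p) (hk _)
    rw [map_sub, map_sub, TensorProduct.map_tmul, TensorProduct.map_tmul]
    have e : TensorProduct.map σ σ (Coalgebra.comul (R := k) a) - σ a ⊗ₜ[k] σ 1 - σ 1 ⊗ₜ[k] σ a -
        (Coalgebra.comul (R := k) (σ a) - σ a ⊗ₜ[k] 1 - 1 ⊗ₜ[k] σ a) =
        -(Coalgebra.comul (R := k) (σ a) - TensorProduct.map σ σ (Coalgebra.comul (R := k) a)) -
          TensorProduct.mk k _ _ (σ a) (σ 1 - 1) - (TensorProduct.mk k _ _).flip (σ a) (σ 1 - 1) := by
      rw [map_sub, map_sub]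
      simp only [TensorProduct.mk_apply, LinearMap.flip_apply]
      abel
    rw [e]
    exact sub_mem (sub_mem (neg_mem (h.comul a)) (map_mem_PP _ h.one)) (map_mem_PP _ h.one)

theorem kill_C (M' : GMod H) (hk : ∀ y : M'.V, (p : k) • y = 0) : ∀ (n : ℕ) (y : M'.C n), (p : k) • y = 0
  | 0 => hk
  | n + 1 => kill_tensor (kill_C M' hk n)

theorem cq_d (h : SD p ι σ) (M : GMod E) (M' : GMod H) (f : M.V →ₗ[k] M'.V) (hk : ∀ y : M'.V, (p : k) • y = 0)
    (hf : Compat σ M M' f) : ∀ (n : ℕ) (x : M.C n), cq σ M M' f (n + 1) (M.d n x) = M'.d n (cq σ M M' f n x)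
  | 0, x => by
    change TensorProduct.map f σ (Hoch.d k E.O M.V 0 x) = Hoch.d k H.O M'.V 0 (f x)
    rw [Hoch.d_zero_apply, Hoch.d_zero_apply, map_sub, hf, TensorProduct.map_tmul, sub_right_inj, ← sub_eq_zero,
      ← TensorProduct.tmul_sub]
    exact tmul_eq_zero (p := p) (hk _) h.one
  | n + 1, x => by
    have ih := cq_d h M M' f hk hf n
    have e1 : ∀ y : M.C (n + 1), TensorProduct.map (cq σ M M' f (n + 1)) σ ((Hoch.d k E.O M.V n).rTensor E.O y) =
        (Hoch.d k H.O M'.V n).rTensor H.O (cq σ M M' f (n + 1) y) := by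
      intro y
      change (TensorProduct.map (cq σ M M' f (n + 1)) σ ∘ₗ TensorProduct.map (Hoch.d k E.O M.V n) LinearMap.id) y =
        (TensorProduct.map (Hoch.d k H.O M'.V n) LinearMap.id ∘ₗ TensorProduct.map (cq σ M M' f n) σ) y
      rw [← TensorProduct.map_comp, ← TensorProduct.map_comp, LinearMap.comp_id, LinearMap.id_comp]
      congr 2
      exact LinearMap.ext ih
    change TensorProduct.map (cq σ M M' f (n + 1)) σ (Hoch.d k E.O M.V (n + 1) x) =
      Hoch.d k H.O M'.V (n + 1) (cq σ M M' f (n + 1) x)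
    rw [Hoch.d_succ, Hoch.d_succ, LinearMap.add_apply, LinearMap.add_apply, LinearMap.smul_apply,
      LinearMap.smul_apply, map_add, map_smul, e1]
    congr 2
    exact tail_cq h (cq σ M M' f n) (kill_C M' hk n) x

theorem cq_surj (h : SD p ι σ) (M : GMod E) (M' : GMod H) (f : M.V →ₗ[k] M'.V) (hk : ∀ y : M'.V, (p : k) • y = 0)
    (hf : Function.Surjective f) : ∀ n : ℕ, Function.Surjective (cq σ M M' f n)
  | 0 => hf
  | n + 1 => by
    intro y
    have ih := cq_surj h M M' f hk hf n
    change ∃ a, TensorProduct.map (cq σ M M' f n) σ a = y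
    induction y using TensorProduct.induction_on with
    | zero => exact ⟨0, map_zero _⟩
    | add x y hx hy =>
      obtain ⟨a, rfl⟩ := hx
      obtain ⟨b, rfl⟩ := hy
      exact ⟨a + b, map_add _ _ _⟩
    | tmul m b =>
      obtain ⟨m, rfl⟩ := ih m
      refine ⟨m ⊗ₜ ι b, ?_⟩
      rw [TensorProduct.map_tmul, ← sub_eq_zero, ← TensorProduct.tmul_sub]
      exact tmul_eq_zero (p := p) (kill_C M' hk n _) (h.ret b)

theorem red_comul (h : SD p ι σ) {P P' : Type u} [AddCommGroup P] [Module k P] [AddCommGroup P'] [Module k P']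
    (g : P →ₗ[k] P') (hk : ∀ y : P', (p : k) • y = 0) (t : P ⊗[k] E.O) :
    TensorProduct.map g (TensorProduct.map σ σ) ((CoalgebraStruct.comul (R := k) (A := E.O)).lTensor P t) =
      (CoalgebraStruct.comul (R := k) (A := H.O)).lTensor P' (TensorProduct.map g σ t) := by
  induction t with
  | zero => simp only [map_zero]
  | add x y hx hy => simp only [map_add, hx, hy]
  | tmul m a =>
    rw [LinearMap.lTensor_tmul, TensorProduct.map_tmul, TensorProduct.map_tmul, LinearMap.lTensor_tmul, eq_comm,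
      ← sub_eq_zero, ← TensorProduct.tmul_sub]
    exact tmul_eq_zero (p := p) (hk _) (h.comul a)

theorem red_counit (h : SD p ι σ) {P P' : Type u} [AddCommGroup P] [Module k P] [AddCommGroup P'] [Module k P']
    (g : P →ₗ[k] P') (hk : ∀ y : P', (p : k) • y = 0) (t : P ⊗[k] E.O) :
    TensorProduct.map g LinearMap.id ((CoalgebraStruct.counit (R := k) (A := E.O)).lTensor P t) =
      (CoalgebraStruct.counit (R := k) (A := H.O)).lTensor P' (TensorProduct.map g σ t) := by
  induction t with
  | zero => simp only [map_zero]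
  | add x y hx hy => simp only [map_add, hx, hy]
  | tmul m a =>
    rw [LinearMap.lTensor_tmul, TensorProduct.map_tmul, TensorProduct.map_tmul, LinearMap.lTensor_tmul, eq_comm,
      ← sub_eq_zero]
    rw [← TensorProduct.tmul_sub]
    exact tmul_eq_zero (p := p) (hk _) (h.counit a)

/-- the comodule `V/pV` over `O(H)` -/
@[reducible] def redComod (h : SD p ι σ) (V : GMod E) : HopfRep.Comod k H.O (V.V ⧸ PP k p V.V) :=
  let π := (PP k p V.V).mkQ
  let F : V.V →ₗ[k] (V.V ⧸ PP k p V.V) ⊗[k] H.O := TensorProduct.map π σ ∘ₗ HopfRep.Comod.coact (k := k) (A := E.O)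
  have hF : PP k p V.V ≤ LinearMap.ker F := by
    rintro _ ⟨z, rfl⟩
    rw [LinearMap.mem_ker, LinearMap.lsmul_apply, map_smul]
    exact kill_tensor (red_mkQ k p V.V).kill _
  { coact := (PP k p V.V).liftQ F hF
    coassoc := by
      apply (PP k p V.V).linearMap_qext
      apply LinearMap.ext
      intro v
      have e1 : ∀ t : V.V ⊗[k] E.O, ((PP k p V.V).liftQ F hF).rTensor H.O (TensorProduct.map π σ t) =
          TensorProduct.map (TensorProduct.map π σ) σ
            ((HopfRep.Comod.coact (k := k) (A := E.O) (V := V.V)).rTensor E.O t) := by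
        intro t
        induction t with
        | zero => simp only [map_zero]
        | add x y hx hy => simp only [map_add, hx, hy]
        | tmul x y => rfl
      have e2 : ∀ t : (V.V ⊗[k] E.O) ⊗[k] E.O, TensorProduct.assoc k _ _ _
          (TensorProduct.map (TensorProduct.map π σ) σ t) =
          TensorProduct.map π (TensorProduct.map σ σ) (TensorProduct.assoc k _ _ _ t) := by
        intro t
        rw [TensorProduct.map_map_assoc]
      have e3 := LinearMap.congr_fun (HopfRep.Comod.coassoc (k := k) (A := E.O) (V := V.V)) v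
      simp only [LinearMap.comp_apply, LinearEquiv.coe_coe] at e3
      change TensorProduct.assoc k _ _ _ (((PP k p V.V).liftQ F hF).rTensor H.O
          (TensorProduct.map π σ (HopfRep.Comod.coact (k := k) (A := E.O) v))) =
        (CoalgebraStruct.comul (R := k) (A := H.O)).lTensor _
          (TensorProduct.map π σ (HopfRep.Comod.coact (k := k) (A := E.O) v))
      rw [e1, e2, e3, red_comul h π (red_mkQ k p V.V).kill]
    counit_comp := by
      apply (PP k p V.V).linearMap_qext
      apply LinearMap.ext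
      intro v
      have e3 := LinearMap.congr_fun (HopfRep.Comod.counit_comp (k := k) (A := E.O) (V := V.V)) v
      simp only [LinearMap.comp_apply] at e3
      change (CoalgebraStruct.counit (R := k) (A := H.O)).lTensor _
          (TensorProduct.map π σ (HopfRep.Comod.coact (k := k) (A := E.O) v)) = π v ⊗ₜ[k] (1 : k)
      rw [← red_counit h π (red_mkQ k p V.V).kill, e3]
      rfl }

/-- `V/pV` as an `H`-module -/
def redMod (h : SD p ι σ) (V : GMod E) : GMod H where
  V := V.V ⧸ PP k p V.V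
  co := redComod h V

theorem redMod_compat (h : SD p ι σ) (V : GMod E) : Compat σ V (redMod h V) (PP k p V.V).mkQ := fun _ => rfl

/-- compatibility of the tensor products -/
theorem tens_compat (h : SD p ι σ) (M : GMod E) (M' : GMod H) (f : M.V →ₗ[k] M'.V) (hk : ∀ y : M'.V, (p : k) • y = 0)
    (hf : Compat σ M M' f) (N : GMod H) : Compat σ (M.tens (N.res ι)) (M'.tens N) (f.rTensor N.V) := by
  intro x
  induction x using TensorProduct.induction_on with
  | zero => simp only [map_zero]
  | add x y hx hy => simp only [map_add, hx, hy]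
  | tmul m n =>
    have h1 : (GMod.tens M (N.res ι)).co.coact (m ⊗ₜ[k] n) =
        TensorProduct.map LinearMap.id (LinearMap.mul' k E.O)
          (AlgebraTensorModule.tensorTensorTensorComm k k k k M.V E.O N.V E.O
            (M.co.coact m ⊗ₜ[k] (N.res ι).co.coact n)) := rfl
    have h2 : (GMod.tens M' N).co.coact (f m ⊗ₜ[k] n) =
        TensorProduct.map LinearMap.id (LinearMap.mul' k H.O)
          (AlgebraTensorModule.tensorTensorTensorComm k k k k M'.V H.O N.V H.O
            (M'.co.coact (f m) ⊗ₜ[k] N.co.coact n)) := rfl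
    have h3 : ∀ (s : M.V ⊗[k] E.O) (t : N.V ⊗[k] H.O), TensorProduct.map (f.rTensor N.V) σ
        (TensorProduct.map LinearMap.id (LinearMap.mul' k E.O)
          (AlgebraTensorModule.tensorTensorTensorComm k k k k M.V E.O N.V E.O
            (s ⊗ₜ[k] TensorProduct.map LinearMap.id (ι : H.O →ₗ[k] E.O) t))) =
        TensorProduct.map LinearMap.id (LinearMap.mul' k H.O)
          (AlgebraTensorModule.tensorTensorTensorComm k k k k M'.V H.O N.V H.O
            (TensorProduct.map f σ s ⊗ₜ[k] t)) := by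
      intro s t
      induction s with
      | zero => simp only [map_zero, TensorProduct.zero_tmul]
      | add x y hx hy => simp only [map_add, TensorProduct.add_tmul, hx, hy]
      | tmul m a =>
        induction t with
        | zero => simp only [map_zero, TensorProduct.tmul_zero]
        | add x y hx hy => simp only [map_add, TensorProduct.tmul_add, hx, hy]
        | tmul n b =>
          change (f m ⊗ₜ[k] n) ⊗ₜ[k] σ (a * ι b) = (f m ⊗ₜ[k] n) ⊗ₜ[k] (σ a * b)
          rw [← sub_eq_zero, ← TensorProduct.tmul_sub]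
          refine tmul_eq_zero (p := p) (kill_tensor hk _) ?_
          have e : σ (a * ι b) - σ a * b = (σ (a * ι b) - σ a * σ (ι b)) + σ a * (σ (ι b) - b) := by ring
          rw [e]
          exact add_mem (h.mul _ _) (mul_mem_PP _ (h.ret b))
    change TensorProduct.map (f.rTensor N.V) σ ((GMod.tens M (N.res ι)).co.coact (m ⊗ₜ[k] n)) =
      (GMod.tens M' N).co.coact (f m ⊗ₜ[k] n)
    rw [h1, h2]
    have h4 : (N.res ι).co.coact n = TensorProduct.map LinearMap.id (ι : H.O →ₗ[k] E.O) (N.co.coact n) := rfl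
    have h5 : M'.co.coact (f m) = TensorProduct.map f σ (M.co.coact m) := (hf m).symm
    rw [h4, h5]
    exact h3 _ _

theorem cq_cmap {M N : GMod E} {M' N' : GMod H} (f : M.V →ₗ[k] M'.V) (g : N.V →ₗ[k] N'.V) (u : M.V →ₗ[k] N.V)
    (u' : M'.V →ₗ[k] N'.V) (hu : ∀ v, g (u v) = u' (f v)) : ∀ (n : ℕ) (x : M.C n),
    cq σ N N' g n (cmap M N u n x) = cmap M' N' u' n (cq σ M M' f n x)
  | 0, x => hu x
  | n + 1, x => by
    change (TensorProduct.map (cq σ N N' g n) σ ∘ₗ TensorProduct.map (cmap M N u n) LinearMap.id) x =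
      (TensorProduct.map (cmap M' N' u' n) LinearMap.id ∘ₗ TensorProduct.map (cq σ M M' f n) σ) x
    rw [← TensorProduct.map_comp, ← TensorProduct.map_comp, LinearMap.comp_id, LinearMap.id_comp]
    congr 2
    exact LinearMap.ext (cq_cmap f g u u' hu n)

/-- coefficients of a 2-cochain which vanishes modulo `p` -/
theorem coef2_nat (h : SD p ι σ) (M : GMod E) (M' : GMod H) (f : M.V →ₗ[k] M'.V) (hf : Red p f) (w : M.C 2)
    (hw : cq σ M M' f 2 w = 0) (g : M.V →ₗ[k] k) : IsNat (coef2 (k := k) (A := E.O) g w) := by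
  apply h.nat
  let w' : (M.V ⊗[k] H.O) ⊗[k] H.O := TensorProduct.map (TensorProduct.map LinearMap.id σ) σ w
  have h1 : ((f.rTensor H.O).rTensor H.O) w' = 0 := by
    rw [← hw]
    change (TensorProduct.map (TensorProduct.map f LinearMap.id) LinearMap.id ∘ₗ
      TensorProduct.map (TensorProduct.map LinearMap.id σ) σ) w = TensorProduct.map (TensorProduct.map f σ) σ w
    rw [← TensorProduct.map_comp, ← TensorProduct.map_comp, LinearMap.comp_id, LinearMap.id_comp]
  have h2 : w' ∈ PP k p ((M.V ⊗[k] H.O) ⊗[k] H.O) := ((hf.rTensor H.O).rTensor H.O).ker _ h1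
  have h3 : TensorProduct.map σ σ (coef2 (k := k) (A := E.O) g w) = coef2 (k := k) (A := H.O) g w' := by
    have e : ∀ x : (M.V ⊗[k] E.O) ⊗[k] E.O, TensorProduct.map σ σ (coef2 (k := k) (A := E.O) g x) =
        coef2 (k := k) (A := H.O) g (TensorProduct.map (TensorProduct.map LinearMap.id σ) σ x) := by
      intro x
      induction x with
      | zero => simp only [map_zero]
      | add x y hx hy => simp only [map_add, hx, hy]
      | tmul x b =>
        induction x with
        | zero => simp only [map_zero, TensorProduct.zero_tmul]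
        | add x y hx hy => simp only [map_add, TensorProduct.add_tmul, hx, hy]
        | tmul v a =>
          simp [coef2, coef1]
    exact e w
  rw [h3]
  exact map_mem_PP _ h2

end Chain

section Final

variable {k : Type u} [CommRing k] {p : ℕ}

/-- **J10a** -/
theorem killLat (hL : IsLb p k) (H : Gp k) (hr : RedModP p H) (hK : KillModP p H) : KillLat H := by
  intro E ι hι V hfree hfin c hc
  obtain ⟨σ, h⟩ := exists_sd hL hr hι
  let M' : GMod H := redMod h V
  have hk : ∀ y : M'.V, (p : k) • y = 0 := (red_mkQ k p V.V).kill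
  let π : V.V →ₗ[k] M'.V := (PP k p V.V).mkQ
  have hMfin : Module.Finite k M'.V := Module.Finite.of_surjective π (red_mkQ k p V.V).surj
  have hc' : M'.d 2 (cq σ V M' π 2 c) = 0 := by
    rw [← cq_d h V M' π hk (redMod_compat h V), hc, map_zero]
  obtain ⟨T, hT, e, b', hb'⟩ := hK M' hMfin hk (cq σ V M' π 2 c) hc'
  let M2 : GMod E := V.tens (e.mod.res ι)
  let M2' : GMod H := M'.tens e.mod
  let f : M2.V →ₗ[k] M2'.V := π.rTensor (Module.End k T.V)
  have hf : Red p f := (red_mkQ k p V.V).rTensor _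
  have hcf : Compat σ M2 M2' f := tens_compat h V M' π hk (redMod_compat h V) e.mod
  obtain ⟨b, hb⟩ := cq_surj h M2 M2' f hf.kill hf.surj 1 b'
  refine ⟨T, hT, e, b, fun g => coef2_nat h M2 M2' f hf _ ?_ g⟩
  rw [map_sub, cq_d h M2 M2' f hf.kill hcf, hb]
  have e1 := cq_cmap (σ := σ) (M := V) (N := M2) (M' := M') (N' := M2') π f (tmulR V (e.mod.res ι) 1)
    (tmulR M' e.mod 1) (fun v => rfl) 2 c
  change cq σ M2 M2' f 2 (cmap V M2 (tmulR V (e.mod.res ι) 1) 2 c) - M2'.d 1 b' = 0
  rw [e1, hb', sub_self]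

end Final

end Groth.Agent.ResProp.EF.K772

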