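import Groth.Agent.ResProp.EF.K772.AdmInv
import Groth.Agent.ResProp.EF.K624.Nodes

/-! # J9: the invariant of admissible groups -/

set_option autoImplicit false

universe u

namespace Groth.Agent.ResProp.EF.K772

open Grp K785 K624

variable {k : Type u} [CommRing k]

theorem inv_of_adm [IsDomain k] [CharZero k] {H E : Gp k} {ι : H.O →ₐc[k] E.O} (h : Adm H E ι) : Inv ι := by
  obtain ⟨σ, hσ⟩ := exists_ret h
  exact ⟨fun a => ⟨σ a, hσ.nat a⟩, σ.toLinearMap, hσ.ret⟩

/-- **J9** -/
theorem invOfAdm [IsDomain k] [CharZero k] (H : Gp k) : InvOfAdm H := fun _ _ h => inv_of_adm h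

end Groth.Agent.ResProp.EF.K772
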